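import Groth.Agent.L06.FlatCodepth
import Groth.Agent.L06.FlatFibre
import Groth.Agent.L04.CMBasic
import Groth.Agent.L03.Catenary
import Groth.Agent.L22.DimFormula
import Groth.Agent.L04.LC.Codim
import Groth.Prelude.Def_CAlg
import Mathlib.RingTheory.Ideal.AssociatedPrime.Localization

/-!
# Relative codimensions along a flat map from a Cohen–Macaulay ring to a catenary ring
-/

set_option autoImplicit false
set_option linter.style.haveILetI false

universe u

open IsLocalRing

namespace Groth.L28.DeltaT

variable {A A' : Type u} [CommRing A] [CommRing A'] [Algebra A A'] [IsNoetherianRing A] [IsNoetherianRing A']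
  [Module.Flat A A']

/-- A component through a point is at least as large as the Cohen–Macaulay base at the image point. -/
theorem height_comap_le_of_minimal (hcm : LocCoh.IsCohenMacaulayRing A) (m' : Ideal A') [m'.IsPrime]
    (Q : Ideal A') (hQ : Q ∈ minimalPrimes A') (hQm : Q ≤ m') :
    (m'.comap (algebraMap A A')).height ≤ (m'.map (Ideal.Quotient.mk Q)).height := by
  haveI : Q.IsPrime := hQ.1.1
  obtain ⟨i, hl, hf, -⟩ := Groth.L06.FlatFibre.exists_local_fibre (m'.comap (algebraMap A A')) m' (S := A')
  letI := i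
  haveI := hl
  haveI := hf
  let m := m'.comap (algebraMap A A')
  let B := Localization.AtPrime m'
  haveI : IsNoetherianRing B := IsLocalization.isNoetherianRing m'.primeCompl B inferInstance
  haveI := hcm.isCohenMacaulayLocalRing_localization m
  have h1 : (m.height : WithBot ℕ∞) =
      ((LocCoh.depth (Localization.AtPrime m) (Localization.AtPrime m) : ℕ∞) : WithBot ℕ∞) := by
    rw [← IsLocalization.AtPrime.ringKrullDim_eq_height m (Localization.AtPrime m),
      ← Module.supportDim_self_eq_ringKrullDim]
    exact LocCoh.IsCohenMacaulayLocalRing.supportDim_eq_depth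
  have h2 : LocCoh.depth (Localization.AtPrime m) (Localization.AtPrime m) ≤ LocCoh.depth B B := by
    rw [Groth.L06.FlatCodepth.depth_eq_add (Localization.AtPrime m) B]
    exact le_self_add
  have hdisj : Disjoint (m'.primeCompl : Set A') (Q : Set A') :=
    Set.disjoint_left.2 fun a ha haQ => ha (hQm haQ)
  let QB := Q.map (algebraMap A' B)
  haveI : QB.IsPrime := IsLocalization.isPrime_of_isPrime_disjoint m'.primeCompl B Q inferInstance hdisj
  have hQB : QB ∈ associatedPrimes B B := by
    apply Module.associatedPrimes.minimalPrimes_annihilator_subset_associatedPrimes B B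
    rw [Module.annihilator_eq_bot.mpr inferInstance]
    refine ⟨⟨inferInstance, bot_le⟩, fun J hJ hJQ => ?_⟩
    haveI := hJ.1
    have h : J.comap (algebraMap A' B) ≤ Q := (Ideal.comap_mono hJQ).trans_eq
      (IsLocalization.under_map_of_isPrime_disjoint m'.primeCompl B inferInstance hdisj)
    have h' : Q ≤ J.comap (algebraMap A' B) := hQ.2 ⟨Ideal.IsPrime.comap _, bot_le⟩ h
    exact Ideal.map_le_iff_le_comap.2 h'
  have h3 := Groth.L04.depth_le_ringKrullDim_quotient (M := B) hQB
  have h4 : ringKrullDim (B ⧸ QB) ≤ ((m'.map (Ideal.Quotient.mk Q)).height : WithBot ℕ∞) := by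
    let q0 : PrimeSpectrum A' := ⟨Q, inferInstance⟩
    let q1 : PrimeSpectrum A' := ⟨m', inferInstance⟩
    rw [← Groth.L04.LC.orderHeight_Ici q0 q1 hQm]
    let g : A' →+* B ⧸ QB := (Ideal.Quotient.mk QB).comp (algebraMap A' B)
    have hge : ∀ x : PrimeSpectrum (B ⧸ QB), q0 ≤ PrimeSpectrum.comap g x := fun x a ha => by
      show g a ∈ x.asIdeal
      rw [show g a = 0 from Ideal.Quotient.eq_zero_iff_mem.2 (Ideal.mem_map_of_mem _ ha)]
      exact x.asIdeal.zero_mem
    have hle : ∀ x : PrimeSpectrum (B ⧸ QB), PrimeSpectrum.comap g x ≤ q1 := fun x => by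
      show x.asIdeal.comap g ≤ m'
      rw [← Ideal.comap_comap]
      exact (Ideal.comap_mono (IsLocalRing.le_maximalIdeal (Ideal.IsPrime.ne_top (Ideal.IsPrime.comap _)))).trans_eq
        (IsLocalization.AtPrime.under_maximalIdeal B m')
    let F : PrimeSpectrum (B ⧸ QB) → Set.Ici q0 := fun x => ⟨PrimeSpectrum.comap g x, hge x⟩
    have hF : StrictMono F := by
      intro x y hxy
      have h5 : PrimeSpectrum.comap (Ideal.Quotient.mk QB) x < PrimeSpectrum.comap (Ideal.Quotient.mk QB) y :=
        RingHom.strictMono_comap_of_surjective Ideal.Quotient.mk_surjective hxy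
      show PrimeSpectrum.comap g x < PrimeSpectrum.comap g y
      refine lt_of_le_of_ne (Ideal.comap_mono hxy.le) fun h => h5.ne ?_
      exact PrimeSpectrum.localization_comap_injective B m'.primeCompl h
    haveI : Nontrivial (B ⧸ QB) := Ideal.Quotient.nontrivial_iff.2 (Ideal.IsPrime.ne_top inferInstance)
    rw [ringKrullDim, Order.krullDim_eq_iSup_height]
    refine iSup_le fun x => WithBot.coe_le_coe.2 ?_
    refine (Order.height_le_height_apply_of_strictMono F hF x).trans ?_
    exact Order.height_mono (show F x ≤ ⟨q1, hQm⟩ from hle x)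
  exact_mod_cast h1.le.trans ((WithBot.coe_le_coe.2 h2).trans (h3.trans h4))

/-- Relative codimensions drop by at most the dimension of the fibre. -/
theorem height_quotient_le (hcm : LocCoh.IsCohenMacaulayRing A) (hcat' : CAlg.IsCatenary A')
    (q' m' : Ideal A') [q'.IsPrime] [m'.IsPrime] (h : q' ≤ m') :
    ((m'.comap (algebraMap A A')).map (Ideal.Quotient.mk (q'.comap (algebraMap A A')))).height ≤
      (m'.map (Ideal.Quotient.mk q')).height +
        (q'.map (Ideal.Quotient.mk ((q'.comap (algebraMap A A')).map (algebraMap A A')))).height := by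
  let m := m'.comap (algebraMap A A')
  let q := q'.comap (algebraMap A A')
  have h1 := Groth.L22.DimFormula.height_map_mk_add_le (show q ≤ m from Ideal.comap_mono h)
  haveI : q'.LiesOver q := ⟨rfl⟩
  have h2 := Ideal.height_le_height_add_of_liesOver q q'
  obtain ⟨Q, hQ, hQq⟩ := Ideal.exists_minimalPrimes_le (J := q') bot_le
  haveI : Q.IsPrime := hQ.1.1
  have h3 := height_comap_le_of_minimal (A := A) hcm m' Q hQ (hQq.trans h)
  have h4 := Groth.L22.DimFormula.height_map_mk_add_le hQq
  haveI : (q'.map (Ideal.Quotient.mk Q)).IsPrime :=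
    Ideal.map_isPrime_of_surjective Ideal.Quotient.mk_surjective (by rw [Ideal.mk_ker]; exact hQq)
  haveI : (m'.map (Ideal.Quotient.mk Q)).IsPrime :=
    Ideal.map_isPrime_of_surjective Ideal.Quotient.mk_surjective (by rw [Ideal.mk_ker]; exact hQq.trans h)
  have h5 := Groth.L22.DimFormula.height_map_mk_add_eq (Groth.L03.Catenary.isCatenary_quotient Q hcat')
    (Ideal.map_mono h : q'.map (Ideal.Quotient.mk Q) ≤ m'.map (Ideal.Quotient.mk Q))
  have h6 : ((m'.map (Ideal.Quotient.mk Q)).map (Ideal.Quotient.mk (q'.map (Ideal.Quotient.mk Q)))).height =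
      (m'.map (Ideal.Quotient.mk q')).height := by
    let e := DoubleQuot.quotQuotEquivQuotOfLE hQq
    have he : ∀ J : Ideal ((A' ⧸ Q) ⧸ q'.map (Ideal.Quotient.mk Q)), (J.map e.toRingHom).height = J.height :=
      fun J => e.height_map J
    rw [← he, Ideal.map_map, Ideal.map_map]
    congr 1
  have key : (m.map (Ideal.Quotient.mk q)).height + q.height ≤
      (m'.map (Ideal.Quotient.mk q')).height +
        (q'.map (Ideal.Quotient.mk (q.map (algebraMap A A')))).height + q.height := by
    refine (h1.trans (h3.trans (h5.symm.le.trans (add_le_add h6.le ((le_self_add.trans h4).trans h2))))).trans ?_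
    exact le_of_eq (by abel)
  exact (ENat.add_le_add_iff_right (Ideal.height_ne_top (Ideal.IsPrime.ne_top inferInstance))).1 key

end Groth.L28.DeltaT
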