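import Groth.Agent.L28.DeltaT.Poly
import Mathlib.RingTheory.Flat.Stability
import Mathlib.RingTheory.Flat.Localization
import Mathlib.RingTheory.TensorProduct.MvPolynomial
import Mathlib.RingTheory.Localization.FractionRing

/-!
# Heights in a fibre of a flat base change
-/

set_option autoImplicit false
set_option linter.style.haveILetI false

universe u

open MvPolynomial
open scoped TensorProduct

namespace Groth.L28.DeltaT

variable {A A' : Type u} [CommRing A] [CommRing A'] [Algebra A A'] [IsNoetherianRing A']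

/-- If `k'` consists of quotients of elements of `A'`, it does not change transcendence degrees. -/
theorem trdeg_eq_of_quotients {D k' L : Type u} [CommRing D] [IsDomain D] [Field k'] [Field L]
    [Algebra D k'] [Algebra D L] [Algebra k' L] [IsScalarTower D k' L] [FaithfulSMul D k']
    (h : ∀ z : k', ∃ a s : D, algebraMap D k' s ≠ 0 ∧ z * algebraMap D k' s = algebraMap D k' a) :
    Algebra.trdeg D L = Algebra.trdeg k' L := by
  haveI : Algebra.IsAlgebraic D k' := ⟨fun z => by
    obtain ⟨a, s, hs, hz⟩ := h z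
    refine ⟨Polynomial.C s * Polynomial.X - Polynomial.C a, fun h0 => hs ?_, ?_⟩
    · have := congrArg (fun p : Polynomial D => p.coeff 1) h0
      simp at this
      simp [this]
    · simp [mul_comm _ z, hz]⟩
  haveI : FaithfulSMul k' L :=
    (faithfulSMul_iff_algebraMap_injective _ _).2 (algebraMap k' L).injective
  rw [← trdeg_add_eq D k' (A := L), trdeg_eq_zero (R := D) (A := k'), zero_add]

/-- Going down along `T → R'`, when `R'` is the base change of a flat `Dt`-algebra `K` to `T`. -/
theorem height_comap_le_of_pushout {Dt T K R' : Type u} [CommRing Dt] [CommRing T] [CommRing K]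
    [CommRing R'] [Algebra Dt T] [Algebra Dt K] [Module.Flat Dt K] (χ : T →+* R') (κ : K →+* R')
    (hc : ∀ d, κ (algebraMap Dt K d) = χ (algebraMap Dt T d)) (G : R' →+* T ⊗[Dt] K)
    (hG1 : ∀ t, G (χ t) = t ⊗ₜ 1) (hG2 : ∀ k, G (κ k) = 1 ⊗ₜ k)
    (hgen : Subring.closure (Set.range χ ∪ Set.range κ) = ⊤) (P : Ideal R') [P.IsPrime] :
    (P.comap χ).height ≤ P.height := by
  letI : Algebra Dt R' := (χ.comp (algebraMap Dt T)).toAlgebra
  let gT : T →ₐ[Dt] R' := { χ with commutes' := fun d => rfl }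
  let gK : K →ₐ[Dt] R' := { κ with commutes' := hc }
  let H : T ⊗[Dt] K →ₐ[Dt] R' := Algebra.TensorProduct.lift gT gK fun a b => Commute.all _ _
  have h1 : H.toRingHom.comp G = RingHom.id R' := by
    refine RingHom.eq_of_eqOn_set_top fun z _ => RingHom.eqOn_set_closure ?_ (hgen.ge trivial)
    rintro _ (⟨t, rfl⟩ | ⟨k, rfl⟩)
    · show H (G (χ t)) = χ t
      rw [hG1, Algebra.TensorProduct.lift_tmul, map_one, mul_one]
      rfl
    · show H (G (κ k)) = κ k
      rw [hG2, Algebra.TensorProduct.lift_tmul, map_one, one_mul]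
      rfl
  have h2 : G.comp H.toRingHom = RingHom.id _ := by
    refine RingHom.ext fun w => ?_
    show G (H w) = w
    induction w using TensorProduct.induction_on with
    | zero => simp
    | add a b ha hb => rw [map_add, map_add, ha, hb]
    | tmul t k =>
      rw [Algebra.TensorProduct.lift_tmul, map_mul]
      show G (χ t) * G (κ k) = _
      rw [hG1, hG2, Algebra.TensorProduct.tmul_mul_tmul, one_mul, mul_one]
  let e : R' ≃+* T ⊗[Dt] K := RingEquiv.ofRingHom G H.toRingHom h2 h1
  let P' : Ideal (T ⊗[Dt] K) := P.comap (e.symm : T ⊗[Dt] K →+* R')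
  haveI : P'.IsPrime := Ideal.IsPrime.comap _
  haveI : (P'.under T).IsPrime := Ideal.IsPrime.under _ _
  haveI : P'.LiesOver (P'.under T) := ⟨rfl⟩
  have h3 : P'.under T = P.comap χ := by
    ext t
    show H (t ⊗ₜ[Dt] (1 : K)) ∈ P ↔ χ t ∈ P
    rw [Algebra.TensorProduct.lift_tmul, map_one, mul_one]
    rfl
  rw [← h3]
  exact (height_le_of_hasGoingDown P' _).trans (e.symm.height_comap P).le

/-- Heights in the fibre `K ⊗ A'` in terms of an algebraically independent family in `K`. -/
theorem core (K : Type u) [Field K] [Algebra A K] (L : Type u) [Field L]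
    (ρ : K ⊗[A] A' →+* L) (P : Ideal (K ⊗[A] A')) [P.IsPrime] (hρ : RingHom.ker ρ = P)
    (k' : Type u) [Field k'] (ι : A' →+* k') (ι' : k' →+* L)
    (hι : ι'.comp ι = ρ.comp (Algebra.TensorProduct.includeRight (R := A) (A := K)).toRingHom)
    (halg : ∀ z : k', ∃ a s : A', ι s ≠ 0 ∧ z * ι s = ι a)
    (q' : Ideal A') [q'.IsPrime] (hq' : RingHom.ker ι = q') (r : ℕ) (x : Fin r → K)
    (hx : ∀ p : MvPolynomial (Fin r) A, eval₂ (algebraMap A K) x p = 0 →
      ∀ m, p.coeff m ∈ q'.comap (algebraMap A A')) :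
    ((q'.map (Ideal.Quotient.mk ((q'.comap (algebraMap A A')).map (algebraMap A A')))).height :
        Cardinal.{u}) + (r : Cardinal.{u}) ≤
      (P.height : Cardinal.{u}) + @Algebra.trdeg k' L _ _ ι'.toAlgebra := by
  let q := q'.comap (algebraMap A A')
  haveI : q.IsPrime := Ideal.IsPrime.comap _
  let J := q.map (algebraMap A A')
  have hJ : J ≤ q' := Ideal.map_comap_le
  let B := A' ⧸ J
  let q'' : Ideal B := q'.map (Ideal.Quotient.mk J)
  haveI : q''.IsPrime :=
    Ideal.map_isPrime_of_surjective Ideal.Quotient.mk_surjective (by rw [Ideal.mk_ker]; exact hJ)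
  have hq'' : q''.comap (Ideal.Quotient.mk J) = q' := by
    rw [Ideal.comap_map_mk hJ]
  -- the kernel of `A → K`
  have hK : ∀ a ∈ q, algebraMap A K a = 0 := by
    intro a ha
    have h1 : ι (algebraMap A A' a) = 0 := by
      rw [← RingHom.mem_ker, hq']; exact ha
    have h2 : ρ ((1 : K) ⊗ₜ[A] algebraMap A A' a) = 0 :=
      (RingHom.congr_fun hι _).symm.trans (by simp [h1])
    refine (map_eq_zero (ρ.comp Algebra.TensorProduct.includeLeftRingHom)).1 ?_
    rw [← h2]
    show ρ (algebraMap A K a ⊗ₜ[A] 1) = _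
    rw [Algebra.algebraMap_eq_smul_one, Algebra.algebraMap_eq_smul_one, TensorProduct.smul_tmul]
  -- polynomial rings
  let Dt := MvPolynomial (Fin r) (A ⧸ q)
  let T := MvPolynomial (Fin r) B
  let ψ : Dt →+* K := eval₂Hom (Ideal.Quotient.lift q (algebraMap A K) hK) x
  have hψ : Function.Injective ψ := by
    rw [injective_iff_map_eq_zero]
    intro p hp
    obtain ⟨p, rfl⟩ := map_surjective (Ideal.Quotient.mk q) Ideal.Quotient.mk_surjective p
    have h1 : eval₂ (algebraMap A K) x p = 0 := by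
      rw [← hp]
      show _ = eval₂Hom _ x (map (Ideal.Quotient.mk q) p)
      rw [eval₂Hom_map_hom]
      rfl
    ext m
    rw [coeff_map, coeff_zero, Ideal.Quotient.eq_zero_iff_mem]
    exact hx p h1 m
  let φ : Dt →+* T := map (Ideal.quotientMap J (algebraMap A A') Ideal.le_comap_map)
  let η : A' →+* K ⊗[A] A' := (Algebra.TensorProduct.includeRight (R := A) (A := K)).toRingHom
  have hη : ∀ b ∈ J, η b = 0 := by
    intro b hb
    have : J ≤ RingHom.ker η := by
      rw [Ideal.map_le_iff_le_comap]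
      intro a ha
      show (1 : K) ⊗ₜ[A] algebraMap A A' a = 0
      rw [Algebra.algebraMap_eq_smul_one, ← TensorProduct.smul_tmul, ← Algebra.algebraMap_eq_smul_one,
        hK a ha, TensorProduct.zero_tmul]
    exact this hb
  let χ : T →+* K ⊗[A] A' :=
    eval₂Hom (Ideal.Quotient.lift J η hη) (fun i => x i ⊗ₜ[A] (1 : A'))
  -- the flat map `T → T ⊗ K`
  letI : Algebra Dt K := ψ.toAlgebra
  letI : Algebra Dt T := φ.toAlgebra
  haveI : FaithfulSMul Dt K := (faithfulSMul_iff_algebraMap_injective _ _).2 hψ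
  haveI : Module.Flat Dt K := by
    letI := FractionRing.liftAlgebra Dt K
    haveI : Module.Flat Dt (FractionRing Dt) := IsLocalization.flat _ (nonZeroDivisors Dt)
    exact Module.Flat.trans Dt (FractionRing Dt) K
  let W := T ⊗[Dt] K
  let iT : T →+* W := Algebra.TensorProduct.includeLeftRingHom
  let iK : K →+* W := (Algebra.TensorProduct.includeRight (R := Dt) (A := T)).toRingHom
  have hiW : ∀ d, iT (φ d) = iK (ψ d) := fun d =>
    ((Algebra.TensorProduct.includeLeft (R := Dt) (S := Dt) (A := T) (B := K)).commutes d).trans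
      ((Algebra.TensorProduct.includeRight (R := Dt) (A := T) (B := K)).commutes d).symm
  -- the map `K ⊗ A' → W`
  letI : Algebra A W := (iK.comp (algebraMap A K)).toAlgebra
  let fK : K →ₐ[A] W := { iK with commutes' := fun a => rfl }
  let fA : A' →ₐ[A] W :=
    { iT.comp (MvPolynomial.C.comp (Ideal.Quotient.mk J)) with
      commutes' := fun a => by
        refine Eq.trans ?_ ((hiW (C (Ideal.Quotient.mk q a))).trans ?_)
        · show iT (C (Ideal.Quotient.mk J (algebraMap A A' a))) = _
          rw [show φ (C (Ideal.Quotient.mk q a)) = _ from map_C _ _]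
          rfl
        · show iK (ψ (C (Ideal.Quotient.mk q a))) = iK (algebraMap A K a)
          rw [show ψ (C (Ideal.Quotient.mk q a)) = _ from eval₂Hom_C _ _ _]
          rfl }
  let G : K ⊗[A] A' →ₐ[A] W := Algebra.TensorProduct.lift fK fA fun a b => Commute.all _ _
  have hgK : ∀ d, (Algebra.TensorProduct.includeLeftRingHom : K →+* K ⊗[A] A') (ψ d) = χ (φ d) := by
    intro d
    refine RingHom.congr_fun (MvPolynomial.ringHom_ext
      (f := (Algebra.TensorProduct.includeLeftRingHom : K →+* K ⊗[A] A').comp ψ) (g := χ.comp φ)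
      (fun a => ?_) (fun i => ?_)) d
    · obtain ⟨a, rfl⟩ := Ideal.Quotient.mk_surjective a
      show (ψ (C (Ideal.Quotient.mk q a))) ⊗ₜ[A] (1 : A') = χ (φ (C (Ideal.Quotient.mk q a)))
      rw [show φ (C (Ideal.Quotient.mk q a)) = C (Ideal.Quotient.mk J (algebraMap A A' a)) from map_C _ _,
        show ψ (C (Ideal.Quotient.mk q a)) = algebraMap A K a from eval₂Hom_C _ _ _,
        show χ (C (Ideal.Quotient.mk J (algebraMap A A' a))) = (1 : K) ⊗ₜ[A] algebraMap A A' a from
          eval₂Hom_C _ _ _,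
        Algebra.algebraMap_eq_smul_one, Algebra.algebraMap_eq_smul_one, TensorProduct.smul_tmul]
    · show (ψ (X i)) ⊗ₜ[A] (1 : A') = χ (φ (X i))
      rw [show φ (X i) = X i from map_X _ _, show ψ (X i) = x i from eval₂Hom_X' _ _ _,
        show χ (X i) = x i ⊗ₜ[A] (1 : A') from eval₂Hom_X' _ _ _]
  have hGχ : ∀ t, G (χ t) = iT t := by
    intro t
    refine RingHom.congr_fun (MvPolynomial.ringHom_ext (f := G.toRingHom.comp χ) (g := iT)
      (fun a => ?_) (fun i => ?_)) t
    · obtain ⟨a, rfl⟩ := Ideal.Quotient.mk_surjective a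
      show G (χ (C (Ideal.Quotient.mk J a))) = _
      rw [show χ (C (Ideal.Quotient.mk J a)) = (1 : K) ⊗ₜ[A] a from eval₂Hom_C _ _ _,
        Algebra.TensorProduct.lift_tmul, map_one, one_mul]
      rfl
    · show G (χ (X i)) = _
      rw [show χ (X i) = x i ⊗ₜ[A] (1 : A') from eval₂Hom_X' _ _ _,
        Algebra.TensorProduct.lift_tmul, map_one, mul_one]
      show iK (x i) = _
      rw [← show ψ (X i) = x i from eval₂Hom_X' _ _ _, ← hiW, show φ (X i) = X i from map_X _ _]
  let Q : Ideal T := P.comap χ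
  haveI : Q.IsPrime := Ideal.IsPrime.comap _
  have hQP : Q.height ≤ P.height := by
    refine height_comap_le_of_pushout (Dt := Dt) χ Algebra.TensorProduct.includeLeftRingHom hgK
      G.toRingHom hGχ (fun k => ?_) ?_ P
    · show G (k ⊗ₜ[A] (1 : A')) = iK k
      rw [Algebra.TensorProduct.lift_tmul, map_one, mul_one]
      rfl
    · rw [← top_le_iff]
      intro z _
      induction z using TensorProduct.induction_on with
      | zero => exact zero_mem _
      | add a b ha hb => exact add_mem (ha trivial) (hb trivial)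
      | tmul k a =>
        rw [← show (k ⊗ₜ[A] (1 : A')) * ((1 : K) ⊗ₜ[A] a) = k ⊗ₜ a by simp]
        refine mul_mem (Subring.subset_closure (Or.inr ⟨k, rfl⟩))
          (Subring.subset_closure (Or.inl ⟨C (Ideal.Quotient.mk J a), ?_⟩))
        exact eval₂Hom_C _ _ _
  have hQ : ∀ t, t ∈ Q ↔ ρ (χ t) = 0 := fun t => by
    rw [← RingHom.mem_ker, hρ]
    rfl
  have hC : ∀ b, ρ (χ (C (Ideal.Quotient.mk J b))) = ι' (ι b) := fun b => by
    rw [show χ (C (Ideal.Quotient.mk J b)) = (1 : K) ⊗ₜ[A] b from eval₂Hom_C _ _ _]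
    exact (RingHom.congr_fun hι b).symm
  haveI : Q.LiesOver q'' := ⟨by
    ext b
    obtain ⟨b, rfl⟩ := Ideal.Quotient.mk_surjective b
    rw [← Ideal.mem_comap (f := Ideal.Quotient.mk J), hq'', ← hq', RingHom.mem_ker, Ideal.mem_comap]
    show _ ↔ C (Ideal.Quotient.mk J b) ∈ Q
    rw [hQ, hC, map_eq_zero_iff ι' ι'.injective]⟩
  have h0 := height_add_card_eq r Q q''
  -- transcendence degrees
  let β : T ⧸ Q →+* L := Ideal.Quotient.lift Q (ρ.comp χ) fun t ht => (hQ t).1 ht
  letI : Algebra (B ⧸ q'') L := (β.comp (algebraMap (B ⧸ q'') (T ⧸ Q))).toAlgebra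
  letI : Algebra (B ⧸ q'') k' :=
    (Ideal.Quotient.lift q'' (Ideal.Quotient.lift J ι fun b hb => by
      rw [← RingHom.mem_ker, hq']; exact hJ hb) fun b hb => by
      obtain ⟨b, rfl⟩ := Ideal.Quotient.mk_surjective b
      rw [Ideal.Quotient.lift_mk, ← RingHom.mem_ker, hq', ← hq'']
      exact hb).toAlgebra
  letI : Algebra k' L := ι'.toAlgebra
  haveI : IsScalarTower (B ⧸ q'') k' L := IsScalarTower.of_algebraMap_eq fun b => by
    obtain ⟨b, rfl⟩ := Ideal.Quotient.mk_surjective b
    obtain ⟨b, rfl⟩ := Ideal.Quotient.mk_surjective b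
    exact hC b
  haveI : FaithfulSMul (B ⧸ q'') k' := (faithfulSMul_iff_algebraMap_injective _ _).2 <| by
    rw [injective_iff_map_eq_zero]
    intro b hb
    obtain ⟨b, rfl⟩ := Ideal.Quotient.mk_surjective b
    obtain ⟨b, rfl⟩ := Ideal.Quotient.mk_surjective b
    rw [Ideal.Quotient.eq_zero_iff_mem, ← Ideal.mem_comap, hq'', ← hq', RingHom.mem_ker]
    exact hb
  have h5 : Algebra.trdeg (B ⧸ q'') L = Algebra.trdeg k' L := trdeg_eq_of_quotients fun z => by
    obtain ⟨a, s, hs, hz⟩ := halg z
    exact ⟨Ideal.Quotient.mk q'' (Ideal.Quotient.mk J a), Ideal.Quotient.mk q'' (Ideal.Quotient.mk J s),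
      hs, hz⟩
  have h6 : Algebra.trdeg (B ⧸ q'') (T ⧸ Q) ≤ Algebra.trdeg (B ⧸ q'') L :=
    trdeg_le_of_injective ({ β with commutes' := fun b => rfl } : (T ⧸ Q) →ₐ[B ⧸ q''] L) <| by
      show Function.Injective β
      rw [injective_iff_map_eq_zero]
      intro t ht
      obtain ⟨t, rfl⟩ := Ideal.Quotient.mk_surjective t
      exact Ideal.Quotient.eq_zero_iff_mem.2 ((hQ t).2 ht)
  refine (le_of_eq h0).trans (add_le_add ?_ (h6.trans h5.le))
  exact Cardinal.ofENat_le_ofENat.2 hQP

end Groth.L28.DeltaT
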