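import Groth.Agent.L28.DeltaT.Core
import Groth.Agent.L28.DeltaT.Codim
import Groth.Prelude.Def_CInt
import Mathlib.AlgebraicGeometry.Fiber
import Mathlib.AlgebraicGeometry.Pullbacks

/-!
# Scheme-theoretic glue for the inequality between relative codimension functions
-/

set_option autoImplicit false
set_option linter.style.haveILetI false
set_option backward.isDefEq.respectTransparency.types false

universe u

open CategoryTheory CategoryTheory.Limits AlgebraicGeometry
open scoped TensorProduct

namespace Groth.L28.DeltaT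

/-- The evaluation map into the residue field at a point of an affine scheme. -/
noncomputable def evalHom (R : CommRingCat.{u}) (w : Spec R) : R ⟶ (Spec R).residueField w :=
  CommRingCat.ofHom (algebraMap R w.asIdeal.ResidueField) ≫ (Scheme.Spec.residueFieldIso R w).inv

theorem specMap_evalHom (R : CommRingCat.{u}) (w : Spec R) :
    Spec.map (evalHom R w) = (Spec R).fromSpecResidueField w := by
  rw [evalHom, Spec.map_comp, Scheme.Spec.map_residueFieldIso_inv_eq_fromSpecResidueField]

theorem ker_evalHom (R : CommRingCat.{u}) (w : Spec R) : RingHom.ker (evalHom R w).hom = w.asIdeal := by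
  haveI := w.2
  ext a
  show (Scheme.Spec.residueFieldIso R w).inv.hom (algebraMap R w.asIdeal.ResidueField a) = 0 ↔ _
  rw [map_eq_zero_iff _ (RingHom.injective _), Ideal.algebraMap_residueField_eq_zero]

theorem evalHom_quotients (R : CommRingCat.{u}) (w : Spec R) (z : (Spec R).residueField w) :
    ∃ a s : R, (evalHom R w).hom s ≠ 0 ∧ z * (evalHom R w).hom s = (evalHom R w).hom a := by
  haveI := w.2
  let i := (Scheme.Spec.residueFieldIso R w)
  obtain ⟨⟨a, ⟨s, hs⟩⟩, h⟩ :=
    IsLocalization.surj (nonZeroDivisors (R ⧸ w.asIdeal)) (i.hom.hom z : w.asIdeal.ResidueField)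
  obtain ⟨a, rfl⟩ := Ideal.Quotient.mk_surjective a
  obtain ⟨s, rfl⟩ := Ideal.Quotient.mk_surjective s
  have hs' : s ∉ w.asIdeal := fun hmem =>
    nonZeroDivisors.ne_zero hs (Ideal.Quotient.eq_zero_iff_mem.2 hmem)
  refine ⟨a, s, fun h0 => hs' ((ker_evalHom R w).le h0), ?_⟩
  have h' : i.hom.hom z * algebraMap R w.asIdeal.ResidueField s =
      algebraMap R w.asIdeal.ResidueField a := by
    simpa [Ideal.algebraMap_quotient_residueField_mk] using h
  have := congrArg i.inv.hom h'
  rw [map_mul] at this
  refine Eq.trans ?_ this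
  congr 1
  exact (i.commRingCatIsoToRingEquiv.symm_apply_apply z).symm

/-- The stalk of an affine scheme transported along an isomorphism has the height of the prime. -/
theorem ringKrullDim_stalk_iso {Y : Scheme.{u}} {R : CommRingCat.{u}} (Φ : Y ≅ Spec R) (y : Y) :
    ringKrullDim (Y.presheaf.stalk y) = ((Φ.hom.base y).asIdeal.height : WithBot ℕ∞) := by
  let z : Spec R := Φ.hom.base y
  haveI := z.2
  rw [← ringKrullDim_eq_of_ringEquiv (asIso (Φ.hom.stalkMap y)).commRingCatIsoToRingEquiv,
    ringKrullDim_eq_of_ringEquiv (Spec.stalkIso R z).commRingCatIsoToRingEquiv,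
    IsLocalization.AtPrime.ringKrullDim_eq_height z.asIdeal (Localization.AtPrime z.asIdeal)]

variable {A A' : Type u} [CommRing A] [CommRing A'] [Algebra A A'] [IsNoetherianRing A']

/-- The fibre of a base change of affine schemes, as a spectrum. -/
theorem exists_fibreIso {X : Scheme.{u}} (f : X ⟶ Spec (CommRingCat.of A)) (K : CommRingCat.{u})
    (c : Spec K ⟶ X) (φ : CommRingCat.of A ⟶ K) (hφ : Spec.map φ = c ≫ f) :
    letI : Algebra A K := φ.hom.toAlgebra
    ∃ Φ : pullback (pullback.fst f (Spec.map (CommRingCat.ofHom (algebraMap A A')))) c ≅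
        Spec (CommRingCat.of (K ⊗[A] A')),
      Φ.hom ≫ Spec.map (CommRingCat.ofHom
        (Algebra.TensorProduct.includeRight (R := A) (A := K) (B := A')).toRingHom) =
      pullback.fst _ c ≫ pullback.snd f (Spec.map (CommRingCat.ofHom (algebraMap A A'))) := by
  letI : Algebra A K := φ.hom.toAlgebra
  let g := Spec.map (CommRingCat.ofHom (algebraMap A A'))
  refine ⟨pullbackSymmetry _ c ≪≫ pullbackRightPullbackFstIso f g c ≪≫
    pullback.congrHom hφ.symm rfl ≪≫ pullbackSpecIso A K A', ?_⟩
  simp only [Iso.trans_hom, Category.assoc]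
  erw [pullbackSpecIso_hom_snd]
  simp only [pullback.congrHom_hom]
  erw [pullback.lift_snd, pullbackRightPullbackFstIso_hom_snd, pullbackSymmetry_hom_comp_snd_assoc]

theorem add_le_trdeg_add_fibre {X : Scheme.{u}} (f : X ⟶ Spec (CommRingCat.of A))
    (x' : ↥(pullback f (Spec.map (CommRingCat.ofHom (algebraMap A A'))))) (r r' e : ℕ)
    (hr : @Algebra.trdeg _ _ _ _ (f.residueFieldMap
      ((pullback.fst f (Spec.map (CommRingCat.ofHom (algebraMap A A')))).base x')).hom.toAlgebra = r)
    (hr' : @Algebra.trdeg _ _ _ _ ((pullback.snd f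
      (Spec.map (CommRingCat.ofHom (algebraMap A A')))).residueFieldMap x').hom.toAlgebra = r')
    (he : ringKrullDim ↑(CInt.fiberStalk
      (pullback.fst f (Spec.map (CommRingCat.ofHom (algebraMap A A')))) x') = (e : WithBot ℕ∞))
    (q' : Ideal A')
    (hq' : ((pullback.snd f (Spec.map (CommRingCat.ofHom (algebraMap A A')))).base x').asIdeal = q') :
    (q'.map (Ideal.Quotient.mk ((q'.comap (algebraMap A A')).map (algebraMap A A')))).height + r ≤
      ((r' + e : ℕ) : ℕ∞) := by
  let g := Spec.map (CommRingCat.ofHom (algebraMap A A'))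
  let h := pullback.fst f g
  let p₂ := pullback.snd f g
  let x : X := h.base x'
  let s' : Spec (CommRingCat.of A') := p₂.base x'
  let s : Spec (CommRingCat.of A) := f.base x
  let K : CommRingCat.{u} := X.residueField x
  let c := X.fromSpecResidueField x
  let φ : CommRingCat.of A ⟶ X.residueField x := evalHom (CommRingCat.of A) s ≫ f.residueFieldMap x
  have hφ : Spec.map φ = c ≫ f := by
    show Spec.map (evalHom (CommRingCat.of A) s ≫ f.residueFieldMap x) = _
    rw [Spec.map_comp, specMap_evalHom, Scheme.Hom.SpecMap_residueFieldMap_fromSpecResidueField]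
  letI : Algebra A K := φ.hom.toAlgebra
  let R' : CommRingCat.{u} := CommRingCat.of (K ⊗[A] A')
  obtain ⟨Φ₀, hΦ₀⟩ := exists_fibreIso (A' := A') f (X.residueField x) c φ hφ
  let Φ : h.fiber x ≅ Spec R' := Φ₀
  have hΦ : Φ.hom ≫ Spec.map (CommRingCat.ofHom
      (Algebra.TensorProduct.includeRight (R := A) (A := K) (B := A')).toRingHom) =
      h.fiberι x ≫ p₂ := hΦ₀
  let ρ : R' ⟶ (pullback f g).residueField x' := Spec.preimage (h.asFiberHom x' ≫ Φ.hom)
  let P : PrimeSpectrum (K ⊗[A] A') := Φ.hom.base (h.asFiber x')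
  have hP : RingHom.ker ρ.hom = P.asIdeal := by
    let pt : Spec ((pullback f g).residueField x') := (⊥ : PrimeSpectrum ((pullback f g).residueField x'))
    have h1 : (Spec.map ρ).base pt = P := by
      rw [Spec.map_preimage]
      show Φ.hom.base ((h.asFiberHom x').base pt) = _
      exact congrArg Φ.hom.base (Scheme.Hom.asFiberHom_apply h x' pt)
    rw [← h1]
    rfl
  have hι : (p₂.residueFieldMap x').hom.comp (evalHom (CommRingCat.of A') s').hom =
      ρ.hom.comp (Algebra.TensorProduct.includeRight (R := A) (A := K) (B := A')).toRingHom := by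
    have : evalHom (CommRingCat.of A') s' ≫ p₂.residueFieldMap x' = CommRingCat.ofHom
        (Algebra.TensorProduct.includeRight (R := A) (A := K) (B := A')).toRingHom ≫ ρ := by
      apply Spec.map_injective
      rw [Spec.map_comp, Spec.map_comp, specMap_evalHom, Spec.map_preimage,
        Scheme.Hom.SpecMap_residueFieldMap_fromSpecResidueField]
      refine Eq.trans ?_ (Category.assoc _ _ _).symm
      refine Eq.trans ?_ (congrArg (h.asFiberHom x' ≫ ·) hΦ).symm
      refine Eq.trans ?_ (Category.assoc _ _ _)
      exact congrArg (· ≫ p₂) (Scheme.Hom.asFiberHom_fiberι h x').symm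
    exact congrArg CommRingCat.Hom.hom this
  haveI : q'.IsPrime := hq' ▸ s'.2
  have hqA : s.asIdeal = q'.comap (algebraMap A A') := by
    have := congrArg (fun ψ : pullback f g ⟶ Spec (CommRingCat.of A) => ψ.base x')
      (pullback.condition (f := f) (g := g))
    rw [← hq']
    exact congrArg PrimeSpectrum.asIdeal this
  -- a transcendence family
  let ks : CommRingCat.{u} := (Spec (CommRingCat.of A)).residueField s
  letI : Algebra ks K := (f.residueFieldMap x).hom.toAlgebra
  haveI : FaithfulSMul ks K :=
    (faithfulSMul_iff_algebraMap_injective _ _).2 (f.residueFieldMap x).hom.injective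
  obtain ⟨B, hB⟩ := exists_isTranscendenceBasis ks K
  have hcard : Cardinal.mk B = (r : Cardinal.{u}) := hB.cardinalMk_eq_trdeg.trans hr
  obtain ⟨eB⟩ := Cardinal.mk_eq_nat_iff.1 hcard
  let xs : Fin r → K := fun i => (eB.symm i : K)
  have hind : AlgebraicIndependent ks xs := hB.1.comp eB.symm eB.symm.injective
  have hx : ∀ p : MvPolynomial (Fin r) A, MvPolynomial.eval₂ (algebraMap A K) xs p = 0 →
      ∀ m, p.coeff m ∈ q'.comap (algebraMap A A') := by
    intro p hp m
    let ev : A →+* ks := (evalHom (CommRingCat.of A) s).hom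
    have h1 : MvPolynomial.map ev p = 0 := hind.eq_zero_of_aeval_eq_zero _ (by
      rw [MvPolynomial.aeval_def, MvPolynomial.eval₂_map]
      exact hp)
    have h2 : ev (p.coeff m) = 0 := by rw [← MvPolynomial.coeff_map, h1, MvPolynomial.coeff_zero]
    rw [← hqA, ← ker_evalHom (CommRingCat.of A) s]
    exact h2
  have key := core (A := A) (A' := A') (X.residueField x) ((pullback f g).residueField x') ρ.hom P.asIdeal hP ((Spec (CommRingCat.of A')).residueField s') (evalHom (CommRingCat.of A') s').hom
    (p₂.residueFieldMap x').hom hι (evalHom_quotients (CommRingCat.of A') s') q'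
    (by rw [← hq']; exact ker_evalHom (CommRingCat.of A') s') r xs hx
  have he' : P.asIdeal.height = (e : ℕ∞) :=
    WithBot.coe_injective ((ringKrullDim_stalk_iso Φ (h.asFiber x')).symm.trans he)
  rw [he', show @Algebra.trdeg ((Spec (CommRingCat.of A')).residueField s') ((pullback f g).residueField x') _ _ (p₂.residueFieldMap x').hom.toAlgebra = (r' : Cardinal.{u})
    from hr'] at key
  have key' : (q'.map (Ideal.Quotient.mk ((q'.comap (algebraMap A A')).map (algebraMap A A')))).height
      + r ≤ (e : ℕ∞) + r' := by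
    rw [← Cardinal.ofENat_le_ofENat]
    simpa [Cardinal.ofENat_add] using key
  rw [Nat.cast_add, add_comm (r' : ℕ∞)]
  exact key'

end Groth.L28.DeltaT
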