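import Groth.Agent.L22.DimFormula
import Mathlib.RingTheory.MvPolynomial.Basic
import Mathlib.RingTheory.Flat.Basic
import Mathlib.RingTheory.Ideal.GoingDown

/-!
# Primes of polynomial rings in several variables and going down for heights
-/

set_option autoImplicit false
set_option linter.style.haveILetI false

universe u

open MvPolynomial

namespace Groth.L28.DeltaT

/-- The dimension formula for a polynomial ring over a Noetherian ring. -/
theorem height_add_card_eq {B : Type u} [CommRing B] [IsNoetherianRing B] : ∀ (n : ℕ)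
    (Q : Ideal (MvPolynomial (Fin n) B)) [Q.IsPrime] (q : Ideal B) [q.IsPrime] [Q.LiesOver q],
    (q.height : Cardinal.{u}) + (n : Cardinal.{u}) =
      (Q.height : Cardinal.{u}) + Algebra.trdeg (B ⧸ q) (MvPolynomial (Fin n) B ⧸ Q) := by
  intro n
  induction n with
  | zero =>
    intro Q _ q _ _
    let e : MvPolynomial (Fin 0) B ≃ₐ[B] B := isEmptyAlgEquiv B (Fin 0)
    have hs : Function.Surjective (algebraMap B (MvPolynomial (Fin 0) B)) := fun y =>
      ⟨e y, e.injective ((e.commutes (e y)).trans rfl)⟩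
    let e' : B ≃+* MvPolynomial (Fin 0) B :=
      RingEquiv.ofBijective (algebraMap B (MvPolynomial (Fin 0) B)) ⟨MvPolynomial.C_injective _ _, hs⟩
    have hh : Q.height = q.height := by
      rw [Q.over_def q]
      exact (RingEquiv.height_comap e' Q).symm
    haveI : Algebra.IsAlgebraic (B ⧸ q) (MvPolynomial (Fin 0) B ⧸ Q) := ⟨fun y => by
      obtain ⟨y, rfl⟩ := Ideal.Quotient.mk_surjective y
      obtain ⟨a, rfl⟩ := hs y
      exact isAlgebraic_algebraMap (R := B ⧸ q) (A := MvPolynomial (Fin 0) B ⧸ Q)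
        (Ideal.Quotient.mk q a)⟩
    simp [hh, trdeg_eq_zero]
  | succ n ih =>
    intro Q _ q _ _
    let S := MvPolynomial (Fin n) B
    let e : MvPolynomial (Fin (n + 1)) B ≃ₐ[B] Polynomial S := finSuccEquiv B n
    let Q' : Ideal (Polynomial S) := Q.comap (e.symm : Polynomial S →+* MvPolynomial (Fin (n + 1)) B)
    haveI : Q'.IsPrime := Ideal.IsPrime.comap _
    have hh : Q'.height = Q.height := RingEquiv.height_comap e.symm.toRingEquiv Q
    haveI : Q'.LiesOver q := ⟨by
      rw [Q.over_def q]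
      ext a
      show algebraMap B _ a ∈ Q ↔ e.symm (algebraMap B _ a) ∈ Q
      rw [e.symm.commutes]⟩
    let q₁ : Ideal S := Q'.under S
    haveI : q₁.IsPrime := Ideal.IsPrime.under _ _
    haveI : Q'.LiesOver q₁ := ⟨rfl⟩
    haveI : q₁.LiesOver q := Ideal.LiesOver.tower_bot Q' q₁ q
    have h1 := ih q₁ q
    have h2 := Groth.L22.DimFormula.height_add_one_eq q₁ Q'
    haveI : IsScalarTower (B ⧸ q) (S ⧸ q₁) (Polynomial S ⧸ Q') :=
      IsScalarTower.of_algebraMap_eq fun a => by
        obtain ⟨a, rfl⟩ := Ideal.Quotient.mk_surjective a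
        rfl
    have h3 : Algebra.trdeg (B ⧸ q) (S ⧸ q₁) + Algebra.trdeg (S ⧸ q₁) (Polynomial S ⧸ Q') =
        Algebra.trdeg (B ⧸ q) (Polynomial S ⧸ Q') := trdeg_add_eq (B ⧸ q) (S ⧸ q₁)
    let e₂ : (Polynomial S ⧸ Q') ≃+* (MvPolynomial (Fin (n + 1)) B ⧸ Q) :=
      Ideal.quotientEquiv Q' Q e.symm.toRingEquiv
        (Ideal.map_comap_of_surjective _ e.symm.surjective Q).symm
    have h4 : Algebra.trdeg (B ⧸ q) (Polynomial S ⧸ Q') =
        Algebra.trdeg (B ⧸ q) (MvPolynomial (Fin (n + 1)) B ⧸ Q) :=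
      (AlgEquiv.ofRingEquiv (f := e₂) fun a => by
        obtain ⟨a, rfl⟩ := Ideal.Quotient.mk_surjective a
        show Ideal.Quotient.mk Q (e.symm (algebraMap B _ a)) = _
        rw [e.symm.commutes]
        rfl).trdeg_eq
    rw [← hh, ← h4, ← h3, Nat.cast_succ, ← add_assoc, h1, add_right_comm, h2, add_assoc,
      add_comm (Algebra.trdeg (S ⧸ q₁) (Polynomial S ⧸ Q'))]

/-- Going down: a prime is at least as high as the prime it lies over. -/
theorem height_le_of_hasGoingDown {R S : Type u} [CommRing R] [CommRing S] [Algebra R S]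
    [Algebra.HasGoingDown R S] (P : Ideal S) [P.IsPrime] (Q : Ideal R) [Q.IsPrime] [P.LiesOver Q] :
    Q.height ≤ P.height := by
  rw [PrimeSpectrum.height_eq_orderHeight ⟨Q, inferInstance⟩,
    PrimeSpectrum.height_eq_orderHeight ⟨P, inferInstance⟩]
  refine Order.height_le fun l hl => ?_
  haveI : P.LiesOver l.last.asIdeal := by rw [hl]; infer_instance
  obtain ⟨L, hlen, hlast, -⟩ := Ideal.exists_ltSeries_of_hasGoingDown l P
  rw [← hlen]
  exact Order.length_le_height hlast.le

end Groth.L28.DeltaT
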